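import Groth.Agent.Lib.Helper6.FunTopos.SheafIff

set_option linter.unusedSectionVars false
set_option linter.unusedVariables false
set_option linter.unusedSimpArgs false
set_option autoImplicit false
set_option linter.style.haveILetI false
set_option maxHeartbeats 400000

noncomputable section

namespace Groth.Agent.Lib.Helper6.FunTopos

open CategoryTheory Opposite CategoryTheory.Prod

universe u

variable {B : Type u} [SmallCategory B] {C : Type u} [SmallCategory C]
  (J : GrothendieckTopology C)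

/-- The presheaf on `B × C` attached to `G : Bᵒᵖ ⥤ Sheaf J (Type u)`. -/
def presh (G : Bᵒᵖ ⥤ Sheaf J (Type u)) : (B × C)ᵒᵖ ⥤ Type u where
  obj X := (G.obj (op X.unop.1)).obj.obj (op X.unop.2)
  map {X Y} g := (G.map g.unop.1.op).hom.app (op X.unop.2) ≫
    (G.obj (op Y.unop.1)).obj.map g.unop.2.op
  map_id X := by
    have h1 : (𝟙 X : X ⟶ X).unop.1.op = 𝟙 (op X.unop.1) := rfl
    have h2 : (𝟙 X : X ⟶ X).unop.2.op = 𝟙 (op X.unop.2) := rfl
    rw [h1, h2, G.map_id, CategoryTheory.Functor.map_id]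
    rfl
  map_comp {X Y Z} g h := by
    have h1 : (g ≫ h).unop.1.op = g.unop.1.op ≫ h.unop.1.op := rfl
    have h2 : (g ≫ h).unop.2.op = g.unop.2.op ≫ h.unop.2.op := rfl
    rw [h1, h2, G.map_comp, CategoryTheory.Functor.map_comp]
    have nat := (G.map h.unop.1.op).hom.naturality g.unop.2.op
    change ((G.map g.unop.1.op).hom.app (op X.unop.2) ≫ (G.map h.unop.1.op).hom.app (op X.unop.2)) ≫
      ((G.obj (op Z.unop.1)).obj.map g.unop.2.op ≫ (G.obj (op Z.unop.1)).obj.map h.unop.2.op) = _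
    rw [Category.assoc, ← Category.assoc ((G.map h.unop.1.op).hom.app (op X.unop.2)), ← nat]
    simp only [Category.assoc]

variable {J}

lemma presh_map_sectR (G : Bᵒᵖ ⥤ Sheaf J (Type u)) (b : B) {c c' : C} (f : c' ⟶ c) :
    (presh J G).map ((𝟙 b ×ₘ f : (b, c') ⟶ (b, c))).op = (G.obj (op b)).obj.map f.op := by
  change (G.map (𝟙 (op b))).hom.app (op c) ≫ (G.obj (op b)).obj.map f.op = _
  rw [G.map_id]
  rfl

lemma presh_map_sectL (G : Bᵒᵖ ⥤ Sheaf J (Type u)) {b b' : B} (u : b' ⟶ b) (c : C) :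
    (presh J G).map ((u ×ₘ 𝟙 c : (b', c) ⟶ (b, c))).op = (G.map u.op).hom.app (op c) := by
  change (G.map u.op).hom.app (op c) ≫ (G.obj (op b')).obj.map (𝟙 (op c)) = _
  rw [CategoryTheory.Functor.map_id]
  rfl

/-- The slices of `presh G` are the values of `G`. -/
def sliceIso (G : Bᵒᵖ ⥤ Sheaf J (Type u)) (b : B) : slice (presh J G) b ≅ (G.obj (op b)).obj :=
  NatIso.ofComponents (fun c => Iso.refl _) (by
    intro c c' f
    change (presh J G).map ((𝟙 b ×ₘ f.unop : (b, c'.unop) ⟶ (b, c.unop))).op ≫ 𝟙 _ =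
      𝟙 _ ≫ (G.obj (op b)).obj.map f
    rw [presh_map_sectR, Category.comp_id, Category.id_comp]
    rfl)

lemma presh_isSheaf (G : Bᵒᵖ ⥤ Sheaf J (Type u)) :
    Presieve.IsSheaf (prodTop (B := B) J) (presh J G) :=
  isSheaf_of_slices J _ (fun b => Presieve.isSheaf_iso J (sliceIso G b).symm
    ((isSheaf_iff_isSheaf_of_type _ _).1 (G.obj (op b)).property))

variable (J)

/-- The functor `(Bᵒᵖ ⥤ Sheaf J (Type u)) ⥤ Sheaf (prodTop J) (Type u)`. -/
def Φ : (Bᵒᵖ ⥤ Sheaf J (Type u)) ⥤ Sheaf (prodTop (B := B) J) (Type u) where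
  obj G := ⟨presh J G, (isSheaf_iff_isSheaf_of_type _ _).2 (presh_isSheaf G)⟩
  map {G G'} α := ObjectProperty.homMk
    { app := fun X => (α.app (op X.unop.1)).hom.app (op X.unop.2)
      naturality := by
        intro X Y g
        change ((G.map g.unop.1.op).hom.app (op X.unop.2) ≫
          (G.obj (op Y.unop.1)).obj.map g.unop.2.op) ≫ (α.app (op Y.unop.1)).hom.app (op Y.unop.2) =
          (α.app (op X.unop.1)).hom.app (op X.unop.2) ≫
            ((G'.map g.unop.1.op).hom.app (op X.unop.2) ≫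
              (G'.obj (op Y.unop.1)).obj.map g.unop.2.op)
        have n1 := (α.app (op Y.unop.1)).hom.naturality g.unop.2.op
        have n2 := congrArg (fun t => t.hom.app (op X.unop.2)) (α.naturality g.unop.1.op)
        rw [Category.assoc, n1, ← Category.assoc, ← Category.assoc]
        congr 1 }
  map_id G := by
    apply Sheaf.hom_ext
    ext X x
    rfl
  map_comp α β := by
    apply Sheaf.hom_ext
    ext X x
    rfl

end Groth.Agent.Lib.Helper6.FunTopos
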