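import Groth.Agent.Lib.Helper6.FunTopos.Equiv

set_option linter.unusedSectionVars false
set_option linter.unusedVariables false
set_option linter.unusedSimpArgs false
set_option autoImplicit false
set_option linter.style.haveILetI false
set_option maxHeartbeats 400000

noncomputable section

namespace Groth.Agent.Lib.Helper6.FunTopos

open CategoryTheory Opposite CategoryTheory.Prod

universe v u

variable {B : Type u} [SmallCategory B] {C : Type u} [SmallCategory C]
  (J : GrothendieckTopology C)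

lemma Φ_map_app {G G' : Bᵒᵖ ⥤ Sheaf J (Type u)} (α : G ⟶ G') (b : B) (c : C) :
    ((Φ (B := B) J).map α).hom.app (op (b, c)) = (α.app (op b)).hom.app (op c) := rfl

instance : (Φ (B := B) J).Faithful where
  map_injective {G G'} α β h := by
    ext d : 2
    apply Sheaf.hom_ext
    ext c : 2
    have := congrArg (fun t => t.hom.app (op (d.unop, c.unop))) h
    exact this

instance : (Φ (B := B) J).Full where
  map_surjective {G G'} θ := by
    refine ⟨{ app := fun d => ObjectProperty.homMk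
                { app := fun c => θ.hom.app (op (d.unop, c.unop))
                  naturality := ?_ }
              naturality := ?_ }, ?_⟩
    · intro c c' f
      have n := θ.hom.naturality ((𝟙 d.unop ×ₘ f.unop : (d.unop, c'.unop) ⟶ (d.unop, c.unop))).op
      have e1 := presh_map_sectR G d.unop f.unop
      have e2 := presh_map_sectR G' d.unop f.unop
      change (presh J G).map _ ≫ _ = _ ≫ (presh J G').map _ at n
      rw [e1, e2] at n
      exact n
    · intro d d' u
      apply Sheaf.hom_ext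
      ext c : 2
      have n := θ.hom.naturality ((u.unop ×ₘ 𝟙 c.unop : (d'.unop, c.unop) ⟶ (d.unop, c.unop))).op
      have e1 := presh_map_sectL G u.unop c.unop
      have e2 := presh_map_sectL G' u.unop c.unop
      change (presh J G).map _ ≫ _ = _ ≫ (presh J G').map _ at n
      rw [e1, e2] at n
      exact n
    · apply Sheaf.hom_ext
      ext X : 2
      rfl

/-- The functor `Bᵒᵖ ⥤ Sheaf J (Type u)` attached to a sheaf on the product site. -/
def Ψobj (F : Sheaf (prodTop (B := B) J) (Type u)) : Bᵒᵖ ⥤ Sheaf J (Type u) where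
  obj d := ⟨slice F.obj d.unop, (isSheaf_iff_isSheaf_of_type _ _).2
    (isSheaf_slice J F.obj ((isSheaf_iff_isSheaf_of_type _ _).1 F.property) d.unop)⟩
  map {d d'} u := ObjectProperty.homMk
    { app := fun c => F.obj.map
        ((u.unop ×ₘ 𝟙 c.unop : (d'.unop, c.unop) ⟶ (d.unop, c.unop))).op
      naturality := by
        intro c c' f
        change F.obj.map ((𝟙 d.unop ×ₘ f.unop : (d.unop, c'.unop) ⟶ (d.unop, c.unop))).op ≫
          F.obj.map ((u.unop ×ₘ 𝟙 c'.unop : (d'.unop, c'.unop) ⟶ (d.unop, c'.unop))).op =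
          F.obj.map ((u.unop ×ₘ 𝟙 c.unop : (d'.unop, c.unop) ⟶ (d.unop, c.unop))).op ≫
          F.obj.map ((𝟙 d'.unop ×ₘ f.unop : (d'.unop, c'.unop) ⟶ (d'.unop, c.unop))).op
        rw [← F.obj.map_comp, ← F.obj.map_comp, ← op_comp, ← op_comp, comp_eq₁, comp_eq₂] }
  map_id d := by
    apply Sheaf.hom_ext
    ext c : 2
    change F.obj.map ((𝟙 d.unop ×ₘ 𝟙 c.unop : (d.unop, c.unop) ⟶ (d.unop, c.unop))).op = 𝟙 _
    rw [← prod_id, op_id, F.obj.map_id]
  map_comp {d d' d''} u w := by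
    apply Sheaf.hom_ext
    ext c : 2
    change F.obj.map (((u ≫ w).unop ×ₘ 𝟙 c.unop : (d''.unop, c.unop) ⟶ (d.unop, c.unop))).op =
      F.obj.map ((u.unop ×ₘ 𝟙 c.unop : (d'.unop, c.unop) ⟶ (d.unop, c.unop))).op ≫
      F.obj.map ((w.unop ×ₘ 𝟙 c.unop : (d''.unop, c.unop) ⟶ (d'.unop, c.unop))).op
    rw [← F.obj.map_comp, ← op_comp]
    congr 2
    rw [prod_comp]
    simp

/-- `Φ (Ψobj F) ≅ F`. -/
def ΦΨIso (F : Sheaf (prodTop (B := B) J) (Type u)) : (Φ (B := B) J).obj (Ψobj J F) ≅ F :=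
  ObjectProperty.isoMk _ (NatIso.ofComponents (fun X => Iso.refl _) (by
    intro X Y g
    change ((F.obj.map ((g.unop.1 ×ₘ 𝟙 X.unop.2 :
        (Y.unop.1, X.unop.2) ⟶ (X.unop.1, X.unop.2))).op) ≫
      (F.obj.map ((𝟙 Y.unop.1 ×ₘ g.unop.2 :
        (Y.unop.1, Y.unop.2) ⟶ (Y.unop.1, X.unop.2))).op)) ≫ 𝟙 _ = 𝟙 _ ≫ F.obj.map g
    rw [Category.comp_id, Category.id_comp, ← F.obj.map_comp, ← op_comp, comp_eq₂]
    rfl))

instance : (Φ (B := B) J).EssSurj where
  mem_essImage F := ⟨Ψobj J F, ⟨ΦΨIso J F⟩⟩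

instance : (Φ (B := B) J).IsEquivalence where

/-- The equivalence `(Bᵒᵖ ⥤ Sheaf J (Type u)) ≌ Sheaf (prodTop J) (Type u)`. -/
def ΦEquiv : (Bᵒᵖ ⥤ Sheaf J (Type u)) ≌ Sheaf (prodTop (B := B) J) (Type u) :=
  (Φ (B := B) J).asEquivalence

theorem functor_topos {E : Type v} [Category.{u} E]
    (hE : ∃ (C : Type u) (_ : SmallCategory C) (J : GrothendieckTopology C),
      Nonempty (E ≌ Sheaf J (Type u)))
    (D : Type u) [SmallCategory D] :
    ∃ (C : Type u) (_ : SmallCategory C) (J : GrothendieckTopology C),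
      Nonempty ((D ⥤ E) ≌ Sheaf J (Type u)) := by
  obtain ⟨C, hC, J, ⟨e⟩⟩ := hE
  refine ⟨Dᵒᵖ × C, inferInstance, prodTop (B := Dᵒᵖ) J, ⟨?_⟩⟩
  exact (e.congrRight (E := D)).trans
    (((opOpEquivalence D).congrLeft (E := Sheaf J (Type u))).symm.trans (ΦEquiv (B := Dᵒᵖ) J))

end Groth.Agent.Lib.Helper6.FunTopos
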