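import Groth.Agent.Lib.Helper6.FunTopos.Site

set_option linter.unusedSectionVars false
set_option linter.unusedVariables false
set_option linter.unusedSimpArgs false
set_option autoImplicit false
set_option linter.style.haveILetI false
set_option maxHeartbeats 400000

noncomputable section

namespace Groth.Agent.Lib.Helper6.FunTopos

open CategoryTheory Opposite CategoryTheory.Prod

universe u

variable {B : Type u} [SmallCategory B] {C : Type u} [SmallCategory C]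
  (J : GrothendieckTopology C) (P : (B × C)ᵒᵖ ⥤ Type u)

/-- The slice of `P` at `b`. -/
abbrev slice (b : B) : Cᵒᵖ ⥤ Type u := (Prod.sectR b C).op ⋙ P

lemma slice_map (b : B) {c c' : C} (f : c' ⟶ c) (t : P.obj (op (b, c))) :
    (slice P b).map f.op t = P.map ((𝟙 b ×ₘ f : (b, c') ⟶ (b, c))).op t := rfl

lemma comp_eq₁ {b b' : B} {c c' : C} (u : b' ⟶ b) (f : c' ⟶ c) :
    ((u ×ₘ 𝟙 c' : (b', c') ⟶ (b, c')) ≫ (𝟙 b ×ₘ f : (b, c') ⟶ (b, c))) =
      (u ×ₘ f : (b', c') ⟶ (b, c)) := by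
  rw [prod_comp]
  simp

lemma comp_eq₂ {b b' : B} {c c' : C} (u : b' ⟶ b) (f : c' ⟶ c) :
    ((𝟙 b' ×ₘ f : (b', c') ⟶ (b', c)) ≫ (u ×ₘ 𝟙 c : (b', c) ⟶ (b, c))) =
      (u ×ₘ f : (b', c') ⟶ (b, c)) := by
  rw [prod_comp]
  simp

lemma map_split₁ {b b' : B} {c c' : C} (u : b' ⟶ b) (f : c' ⟶ c) (t : P.obj (op (b, c))) :
    P.map ((u ×ₘ f : (b', c') ⟶ (b, c))).op t =
      P.map ((u ×ₘ 𝟙 c' : (b', c') ⟶ (b, c'))).op
        (P.map ((𝟙 b ×ₘ f : (b, c') ⟶ (b, c))).op t) := by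
  rw [← FunctorToTypes.map_comp_apply, ← op_comp, comp_eq₁]

lemma map_split₂ {b b' : B} {c c' : C} (u : b' ⟶ b) (f : c' ⟶ c) (t : P.obj (op (b, c))) :
    P.map ((u ×ₘ f : (b', c') ⟶ (b, c))).op t =
      P.map ((𝟙 b' ×ₘ f : (b', c') ⟶ (b', c))).op
        (P.map ((u ×ₘ 𝟙 c : (b', c) ⟶ (b, c))).op t) := by
  rw [← FunctorToTypes.map_comp_apply, ← op_comp, comp_eq₂]

theorem isSheaf_of_slices (h : ∀ b : B, Presieve.IsSheaf J (slice P b)) :
    Presieve.IsSheaf (prodTop (B := B) J) P := by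
  intro X S hS x hx
  obtain ⟨b, c⟩ := X
  have hS' : restr S ∈ J c := hS
  have hx' := hx.to_sieveCompatible
  -- the restricted family
  let y : Presieve.FamilyOfElements (slice P b) (restr S).arrows :=
    fun c' f hf => x ((𝟙 b ×ₘ f : (b, c') ⟶ (b, c))) hf
  have hy : y.Compatible := by
    rw [Presieve.compatible_iff_sieveCompatible]
    intro c' c'' f g hf
    change x ((𝟙 b ×ₘ (g ≫ f) : (b, c'') ⟶ (b, c))) _ =
      P.map ((𝟙 b ×ₘ g : (b, c'') ⟶ (b, c'))).op (x ((𝟙 b ×ₘ f : (b, c') ⟶ (b, c))) hf)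
    rw [← hx' ((𝟙 b ×ₘ f : (b, c') ⟶ (b, c))) ((𝟙 b ×ₘ g : (b, c'') ⟶ (b, c'))) hf]
    congr 1
    rw [prod_comp]
    simp
  obtain ⟨t, ht, htu⟩ := h b (restr S) hS' y hy
  refine ⟨t, ?_, ?_⟩
  · -- amalgamation
    rintro ⟨b', c'⟩ ⟨u, f⟩ huf
    -- separatedness of the slice at b'
    have hsep := (h b' ((restr S).pullback f) (J.pullback_stable f hS')).isSeparatedFor
    apply hsep.ext
    intro c'' k hk
    have hk' : S.arrows ((𝟙 b ×ₘ (k ≫ f) : (b, c'') ⟶ (b, c))) := hk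
    rw [slice_map, slice_map]
    -- LHS
    have e1 : P.map ((𝟙 b' ×ₘ k : (b', c'') ⟶ (b', c'))).op
        (P.map ((u ×ₘ f : (b', c') ⟶ (b, c))).op t) =
        P.map ((u ×ₘ 𝟙 c'' : (b', c'') ⟶ (b, c''))).op
          (P.map ((𝟙 b ×ₘ (k ≫ f) : (b, c'') ⟶ (b, c))).op t) := by
      rw [← FunctorToTypes.map_comp_apply, ← op_comp, ← FunctorToTypes.map_comp_apply, ← op_comp]
      congr 2
      rw [prod_comp, prod_comp]
      simp
    have e2 : P.map ((𝟙 b ×ₘ (k ≫ f) : (b, c'') ⟶ (b, c))).op t =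
        x ((𝟙 b ×ₘ (k ≫ f) : (b, c'') ⟶ (b, c))) hk' := ht (k ≫ f) hk'
    have e3 := hx' ((𝟙 b ×ₘ (k ≫ f) : (b, c'') ⟶ (b, c)))
      ((u ×ₘ 𝟙 c'' : (b', c'') ⟶ (b, c''))) hk'
    have e4 := hx' ((u ×ₘ f : (b', c') ⟶ (b, c))) ((𝟙 b' ×ₘ k : (b', c'') ⟶ (b', c'))) huf
    change P.map ((𝟙 b' ×ₘ k : (b', c'') ⟶ (b', c'))).op
        (P.map ((u ×ₘ f : (b', c') ⟶ (b, c))).op t) =
      P.map ((𝟙 b' ×ₘ k : (b', c'') ⟶ (b', c'))).op (x ((u ×ₘ f : (b', c') ⟶ (b, c))) huf)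
    rw [e1, e2, ← e3, ← e4]
    congr 1
    rw [prod_comp, prod_comp]
    simp
  · intro t' ht'
    apply htu
    intro c' f hf
    exact ht' ((𝟙 b ×ₘ f : (b, c') ⟶ (b, c))) hf

theorem isSheaf_slice (h : Presieve.IsSheaf (prodTop (B := B) J) P) (b : B) :
    Presieve.IsSheaf J (slice P b) := by
  intro c S hS x hx
  have hx' := hx.to_sieveCompatible
  let S' : Sieve ((b, c) : B × C) :=
    { arrows := fun Y g => S.arrows g.2
      downward_closed := by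
        intro Y Z g hg k
        exact S.downward_closed hg k.2 }
  have hS' : S' ∈ prodTop (B := B) J (b, c) := by
    change restr S' ∈ J c
    have : restr S' = S := by
      ext c' f
      rfl
    rw [this]
    exact hS
  let x' : Presieve.FamilyOfElements P S'.arrows :=
    fun Y g hg => P.map ((g.1 ×ₘ 𝟙 Y.2 : (Y.1, Y.2) ⟶ (b, Y.2))).op (x g.2 hg)
  have hx'' : x'.Compatible := by
    rw [Presieve.compatible_iff_sieveCompatible]
    rintro ⟨b', c'⟩ ⟨b'', c''⟩ ⟨u, f⟩ ⟨v, k⟩ hf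
    change P.map (((v ≫ u) ×ₘ 𝟙 c'' : (b'', c'') ⟶ (b, c''))).op (x (k ≫ f) _) =
      P.map ((v ×ₘ k : (b'', c'') ⟶ (b', c'))).op
        (P.map ((u ×ₘ 𝟙 c' : (b', c') ⟶ (b, c'))).op (x f hf))
    rw [hx' f k hf, slice_map, ← FunctorToTypes.map_comp_apply, ← op_comp,
      ← FunctorToTypes.map_comp_apply, ← op_comp]
    congr 2
    rw [prod_comp, prod_comp]
    simp
  obtain ⟨t, ht, htu⟩ := h S' hS' x' hx''
  refine ⟨t, ?_, ?_⟩
  · intro c' f hf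
    have := ht ((𝟙 b ×ₘ f : (b, c') ⟶ (b, c))) hf
    rw [slice_map, this]
    change P.map ((𝟙 b ×ₘ 𝟙 c' : (b, c') ⟶ (b, c'))).op (x f hf) = x f hf
    rw [← prod_id, op_id, P.map_id]
    rfl
  · intro t' ht'
    apply htu
    rintro ⟨b', c'⟩ ⟨u, f⟩ huf
    change P.map ((u ×ₘ f : (b', c') ⟶ (b, c))).op t' =
      P.map ((u ×ₘ 𝟙 c' : (b', c') ⟶ (b, c'))).op (x f huf)
    rw [map_split₁, ← ht' f huf, slice_map]

end Groth.Agent.Lib.Helper6.FunTopos
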