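import Mathlib.CategoryTheory.Sites.Sheaf
import Mathlib.CategoryTheory.Products.Basic

set_option linter.unusedSectionVars false
set_option linter.unusedVariables false
set_option linter.unusedSimpArgs false
set_option autoImplicit false
set_option linter.style.haveILetI false
set_option maxHeartbeats 400000

noncomputable section

namespace Groth.Agent.Lib.Helper6.FunTopos

open CategoryTheory Opposite CategoryTheory.Prod

universe u

variable {B : Type u} [SmallCategory B] {C : Type u} [SmallCategory C]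

/-- Restriction of a sieve on `(b, c)` to a sieve on `c` (arrows with identity first component). -/
def restr {b : B} {c : C} (S : Sieve ((b, c) : B × C)) : Sieve c where
  arrows c' f := S.arrows ((𝟙 b ×ₘ f : (b, c') ⟶ (b, c)))
  downward_closed := by
    intro c' c'' f hf g
    have h := S.downward_closed hf ((𝟙 b ×ₘ g : (b, c'') ⟶ (b, c')))
    have e : (𝟙 b ×ₘ g : (b, c'') ⟶ (b, c')) ≫ (𝟙 b ×ₘ f : (b, c') ⟶ (b, c)) =
        (𝟙 b ×ₘ (g ≫ f) : (b, c'') ⟶ (b, c)) := by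
      rw [prod_comp]
      simp
    rw [e] at h
    exact h

lemma restr_apply {b : B} {c c' : C} (S : Sieve ((b, c) : B × C)) (f : c' ⟶ c) :
    (restr S).arrows f ↔ S.arrows ((𝟙 b ×ₘ f : (b, c') ⟶ (b, c))) := Iff.rfl

variable (J : GrothendieckTopology C)

/-- The topology on `B × C` induced by `J` on the second factor. -/
def prodTop : GrothendieckTopology (B × C) where
  sieves X := {S | restr (b := X.1) (c := X.2) S ∈ J X.2}
  top_mem' X := by
    have : restr (b := X.1) (c := X.2) (⊤ : Sieve X) = ⊤ := by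
      ext c' f
      simp [restr]
    change restr (b := X.1) (c := X.2) (⊤ : Sieve X) ∈ J X.2
    rw [this]
    exact J.top_mem _
  pullback_stable' := by
    intro X Y S g hS
    change restr (b := Y.1) (c := Y.2) (S.pullback g) ∈ J Y.2
    have hS' : restr (b := X.1) (c := X.2) S ∈ J X.2 := hS
    refine J.superset_covering ?_ (J.pullback_stable g.2 hS')
    intro c'' f hf
    -- hf : (𝟙, f ≫ g.2) ∈ S
    change S.arrows ((𝟙 Y.1 ×ₘ f : (Y.1, c'') ⟶ (Y.1, Y.2)) ≫ g)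
    have hf' : S.arrows ((𝟙 X.1 ×ₘ (f ≫ g.2) : (X.1, c'') ⟶ (X.1, X.2))) := hf
    have e : ((𝟙 Y.1 ×ₘ f : (Y.1, c'') ⟶ (Y.1, Y.2)) ≫ g : (Y.1, c'') ⟶ X) =
        ((g.1 ×ₘ 𝟙 c'' : (Y.1, c'') ⟶ (X.1, c'')) ≫
          (𝟙 X.1 ×ₘ (f ≫ g.2) : (X.1, c'') ⟶ (X.1, X.2)) : (Y.1, c'') ⟶ X) := by
      apply Prod.hom_ext
      · simp
      · simp
    rw [e]
    exact S.downward_closed hf' _
  transitive' := by
    intro X S hS R hR
    change restr (b := X.1) (c := X.2) R ∈ J X.2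
    have hS' : restr (b := X.1) (c := X.2) S ∈ J X.2 := hS
    refine J.transitive hS' _ ?_
    intro c' f hf
    have h1 := hR (Y := (X.1, c')) (f := (𝟙 X.1 ×ₘ f : (X.1, c') ⟶ (X.1, X.2))) hf
    have h2 : restr (b := X.1) (c := c')
        (R.pullback (𝟙 X.1 ×ₘ f : (X.1, c') ⟶ (X.1, X.2))) ∈ J c' := h1
    refine J.superset_covering ?_ h2
    intro c'' h hh
    change R.arrows ((𝟙 X.1 ×ₘ (h ≫ f) : (X.1, c'') ⟶ (X.1, X.2)))
    have hh' : R.arrows ((𝟙 X.1 ×ₘ h : (X.1, c'') ⟶ (X.1, c')) ≫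
        (𝟙 X.1 ×ₘ f : (X.1, c') ⟶ (X.1, X.2))) := hh
    have e : ((𝟙 X.1 ×ₘ h : (X.1, c'') ⟶ (X.1, c')) ≫
        (𝟙 X.1 ×ₘ f : (X.1, c') ⟶ (X.1, X.2))) =
        (𝟙 X.1 ×ₘ (h ≫ f) : (X.1, c'') ⟶ (X.1, X.2)) := by
      rw [prod_comp]
      simp
    rw [e] at hh'
    exact hh'

lemma mem_prodTop {X : B × C} (S : Sieve X) :
    S ∈ prodTop (B := B) J X ↔ restr (b := X.1) (c := X.2) S ∈ J X.2 := Iff.rfl

end Groth.Agent.Lib.Helper6.FunTopos
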